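import Cfsg.Agent.Lib.Spor.HN.Data
import Cfsg.Agent.Lib.Spor.HNA.Main
import Cfsg.Agent.Lib.Spor.HN.Top

set_option autoImplicit false
set_option maxRecDepth 100000
set_option Elab.async false
set_option exponentiation.threshold 100000

namespace Cfsg.Agent.Spor.HN
open Cfsg.Agent.PG Cfsg.Agent.Spor

theorem mcl8_0 : chkR P L 0 133 (Cfsg.Agent.Spor.HNA.cl8_l) = true := by decide +kernel

theorem mcl7_0 : chkR P L 0 133 (Cfsg.Agent.Spor.HNA.cl7_l) = true := by decide +kernel

theorem mcl6_0 : chkR P L 0 133 (Cfsg.Agent.Spor.HNA.cl6_l) = true := by decide +kernel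

theorem mcl5_0 : chkR P L 0 133 (Cfsg.Agent.Spor.HNA.cl5_l) = true := by decide +kernel

theorem mcl4_0 : chkR P L 0 133 (Cfsg.Agent.Spor.HNA.cl4_l) = true := by decide +kernel

theorem mcl3_0 : chkR P L 0 133 ((Cfsg.Agent.Spor.HNA.cl3_l).take 26) = true := by decide +kernel

theorem mcl3_1 : chkR P L 0 133 ((Cfsg.Agent.Spor.HNA.cl3_l).drop 26) = true := by decide +kernel

theorem mcl2_0 : chkR P L 0 133 (Cfsg.Agent.Spor.HNA.cl2_l) = true := by decide +kernel

theorem mcl1_0 : chkR P L 0 133 ((Cfsg.Agent.Spor.HNA.cl1_l).take 19) = true := by decide +kernel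

theorem mcl1_1 : chkR P L 0 133 ((Cfsg.Agent.Spor.HNA.cl1_l).drop 19) = true := by decide +kernel

theorem mcl0_0 : chkR P L 0 133 ((Cfsg.Agent.Spor.HNA.cl0_l).take 20) = true := by decide +kernel

theorem mcl0_1 : chkR P L 0 133 (((Cfsg.Agent.Spor.HNA.cl0_l).drop 20).take 7) = true := by decide +kernel

theorem mcl0_2 : chkR P L 0 133 (((Cfsg.Agent.Spor.HNA.cl0_l).drop 20).drop 7) = true := by decide +kernel

theorem clT_0 : chkR P L 0 133 ((dcClaims 62 64 cjT repsT).take 22) = true := by decide +kernel

theorem clT_1 : chkR P L 0 133 (((dcClaims 62 64 cjT repsT).drop 22).take 13) = true := by decide +kernel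

theorem clT_2 : chkR P L 0 133 ((((dcClaims 62 64 cjT repsT).drop 22).drop 13).take 9) = true := by decide +kernel

theorem clT_3 : chkR P L 0 133 (((((dcClaims 62 64 cjT repsT).drop 22).drop 13).drop 9).take 8) = true := by decide +kernel

theorem clT_4 : chkR P L 0 133 ((((((dcClaims 62 64 cjT repsT).drop 22).drop 13).drop 9).drop 8).take 8) = true := by decide +kernel

theorem clT_5 : chkR P L 0 133 (((((((dcClaims 62 64 cjT repsT).drop 22).drop 13).drop 9).drop 8).drop 8).take 7) = true := by decide +kernel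

theorem clT_6 : chkR P L 0 133 ((((((((dcClaims 62 64 cjT repsT).drop 22).drop 13).drop 9).drop 8).drop 8).drop 7).take 7) = true := by decide +kernel

theorem clT_7 : chkR P L 0 133 (((((((((dcClaims 62 64 cjT repsT).drop 22).drop 13).drop 9).drop 8).drop 8).drop 7).drop 7).take 7) = true := by decide +kernel

theorem clT_8 : chkR P L 0 133 ((((((((((dcClaims 62 64 cjT repsT).drop 22).drop 13).drop 9).drop 8).drop 8).drop 7).drop 7).drop 7).take 7) = true := by decide +kernel

theorem clT_9 : chkR P L 0 133 (((((((((((dcClaims 62 64 cjT repsT).drop 22).drop 13).drop 9).drop 8).drop 8).drop 7).drop 7).drop 7).drop 7).take 7) = true := by decide +kernel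

theorem clT_10 : chkR P L 0 133 ((((((((((((dcClaims 62 64 cjT repsT).drop 22).drop 13).drop 9).drop 8).drop 8).drop 7).drop 7).drop 7).drop 7).drop 7).take 7) = true := by decide +kernel

theorem clT_11 : chkR P L 0 133 (((((((((((((dcClaims 62 64 cjT repsT).drop 22).drop 13).drop 9).drop 8).drop 8).drop 7).drop 7).drop 7).drop 7).drop 7).drop 7).take 8) = true := by decide +kernel

theorem clT_12 : chkR P L 0 133 ((((((((((((((dcClaims 62 64 cjT repsT).drop 22).drop 13).drop 9).drop 8).drop 8).drop 7).drop 7).drop 7).drop 7).drop 7).drop 7).drop 8).take 7) = true := by decide +kernel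

theorem clT_13 : chkR P L 0 133 ((((((((((((((dcClaims 62 64 cjT repsT).drop 22).drop 13).drop 9).drop 8).drop 8).drop 7).drop 7).drop 7).drop 7).drop 7).drop 7).drop 8).drop 7) = true := by decide +kernel

theorem mxc_0 : chkR P L 0 133 ((mxClaims mxT).take 8) = true := by decide +kernel

theorem mxc_1 : chkR P L 0 133 ((mxClaims mxT).drop 8) = true := by decide +kernel

theorem gn_0 : chkR P L 0 133 ((genClaims gn_g).take 16) = true := by decide +kernel

theorem gn_1 : chkR P L 0 133 (((genClaims gn_g).drop 16).take 11) = true := by decide +kernel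

theorem gn_2 : chkR P L 0 133 ((((genClaims gn_g).drop 16).drop 11).take 9) = true := by decide +kernel

theorem gn_3 : chkR P L 0 133 ((((genClaims gn_g).drop 16).drop 11).drop 9) = true := by decide +kernel

theorem pc2p_0 : chkR P L 0 133 ((pcPos 2 10 pc2).take 38) = true := by decide +kernel

theorem pc2p_1 : chkR P L 0 133 (((pcPos 2 10 pc2).drop 38).take 34) = true := by decide +kernel

theorem pc2p_2 : chkR P L 0 133 ((((pcPos 2 10 pc2).drop 38).drop 34).take 31) = true := by decide +kernel

theorem pc2p_3 : chkR P L 0 133 (((((pcPos 2 10 pc2).drop 38).drop 34).drop 31).take 29) = true := by decide +kernel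

theorem pc2p_4 : chkR P L 0 133 ((((((pcPos 2 10 pc2).drop 38).drop 34).drop 31).drop 29).take 30) = true := by decide +kernel

theorem pc2p_5 : chkR P L 0 133 (((((((pcPos 2 10 pc2).drop 38).drop 34).drop 31).drop 29).drop 30).take 29) = true := by decide +kernel

theorem pc2p_6 : chkR P L 0 133 (((((((pcPos 2 10 pc2).drop 38).drop 34).drop 31).drop 29).drop 30).drop 29) = true := by decide +kernel

theorem pc2n_0 : chkN P L (pcNeg 10 pc2) = true := by decide +kernel

theorem pc3p_0 : chkR P L 0 133 ((pcPos 3 24 pc3).take 34) = true := by decide +kernel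

theorem pc3p_1 : chkR P L 0 133 ((pcPos 3 24 pc3).drop 34) = true := by decide +kernel

theorem pc3n_0 : chkN P L (pcNeg 24 pc3) = true := by decide +kernel

theorem pc5p_0 : chkR P L 0 133 ((pcPos 5 30 pc5).take 28) = true := by decide +kernel

theorem pc5p_1 : chkR P L 0 133 ((pcPos 5 30 pc5).drop 28) = true := by decide +kernel

theorem pc5n_0 : chkN P L (pcNeg 30 pc5) = true := by decide +kernel

theorem cme_0 : chkR P L 0 133 (cmLet [gw 48] 63 72) = true := by decide +kernel

theorem sm_0 : chkR P L 0 133 ([(powP [gw 36] 19, []), (powP (gw 36 :: uw) (2 * 5 + 1), []), (uw ++ uw, [])]) = true := by decide +kernel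

theorem ng_0 : chkN P L (ng_l) = true := by decide +kernel

end Cfsg.Agent.Spor.HN
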